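import Cfsg.Agent.H954.OutHeis_m3
import Cfsg.Agent.H392.FFourTwo.Degree
import Cfsg.Agent.S1054
import Cfsg.Agent.FastGrp
import Cfsg.Agent.Prune
set_option linter.all false
prune_inst 0x7f00000000000000000000000000000000000000000000000000000000000000000000000000000000000000000000000000000000000000000000000000000000000000000000000000000000000000003fffffffffffffffffffffffffffbeffbdfbfeffff
open scoped Cfsg.Agent.FastGrp

-- part: H363/Cyc/CharSum
section
/-!
# Degrees and linear characters of a central subgroup (helper363, for TWOCYC, S3507)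

`sum_le` : `W` is central in `P`, `L` a set of linear characters of `W` occurring in `θ`, nondegenerate on `P / W`;
then `|L| m ≤ θ(1)` for `m² ≤ |P : W|`.
-/

set_option autoImplicit false

namespace Cfsg.Agent.H363.Cyc.CharSum

open Cfsg Cfsg.Agent.H686.CharKit Cfsg.Agent.Characters.Core Cfsg.Agent.H954.OutDeg
open scoped ComplexConjugate

universe u v

variable {P : Type u} [Group P] [Finite P] {W : Type v} [Group W] [Finite W] {i : W →* P}

/-- Irreducible characters over a nondegenerate linear character. -/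
theorem sq_deg (hi : Function.Injective i) (hcen : ∀ (w : W) (g : P), g * i w = i w * g) {l : W →* ℂˣ}
    (hnd : ∀ x : P, x ∉ i.range → ∃ (y : P) (w : W), x * y * x⁻¹ * y⁻¹ = i w ∧ l w ≠ 1) {ψ : P → ℂ}
    (hψ : IsIrrCharacter P ψ) (hc : ∀ (x : P) (w : W), ψ (x * i w) = ψ x * (l w : ℂ)) :
    charDegree ψ ^ 2 * Nat.card W = Nat.card P := by
  classical
  have := Fintype.ofFinite P
  have := Fintype.ofFinite W
  have hcl := isClassFunction_def.1 (isIrr_isClassFunction hψ)
  have hoff : ∀ x, x ∉ i.range → ψ x = 0 := by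
    intro x hx
    obtain ⟨y, w, hy, hlw⟩ := hnd x hx
    have h1 : y * x * y⁻¹ = x * i w⁻¹ := by
      rw [hcen, map_inv, ← hy]
      group
    have h2 := hcl x y
    rw [h1, hc, map_inv] at h2
    have h3 : ψ x * ((((l w)⁻¹ : ℂˣ) : ℂ) - 1) = 0 := by rw [mul_sub, h2, mul_one, sub_self]
    rcases mul_eq_zero.1 h3 with h4 | h4
    · exact h4
    · exfalso
      apply hlw
      have h5 : (l w)⁻¹ = 1 := Units.ext (by rw [Units.val_one]; exact sub_eq_zero.1 h4)
      exact inv_eq_one.1 h5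
  have hon : ∀ w : W, ψ (i w) * conj (ψ (i w)) = ψ 1 * ψ 1 := by
    intro w
    have h1 := hc 1 w
    rw [one_mul] at h1
    have h3 := Characters.Linear.norm_hom_apply l w
    have h4 : ((l w : ℂˣ) : ℂ) * conj ((l w : ℂˣ) : ℂ) = 1 := by
      rw [Complex.mul_conj, Complex.normSq_eq_norm_sq, h3]
      norm_num
    obtain ⟨n, hn, h5⟩ := isIrr_apply_one hψ
    rw [h1, map_mul, h5]
    have h6 : conj (n : ℂ) = n := Complex.conj_natCast n
    rw [h6]
    linear_combination (n : ℂ) * n * h4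
  have h1 := classInner_irr_self hψ
  rw [classInner_def] at h1
  have hm0 : (Nat.card P : ℂ) ≠ 0 := card_ne_zero_complex
  have h2 : ∑ g : P, ψ g * conj (ψ g) = (Nat.card W : ℂ) * (ψ 1 * ψ 1) := by
    have h3 : ∀ g : P, ψ g * conj (ψ g) = if g ∈ i.range then ψ 1 * ψ 1 else 0 := by
      intro g
      split_ifs with h
      · obtain ⟨w, rfl⟩ := h
        exact hon w
      · rw [hoff g h, zero_mul]
    rw [Finset.sum_congr rfl fun g _ => h3 g, ← Finset.sum_filter, Finset.sum_const, nsmul_eq_mul]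
    congr 2
    rw [Nat.card_congr (MonoidHom.ofInjective hi).toEquiv, Nat.card_eq_fintype_card, Fintype.card_subtype]
  rw [h2, Cfsg.Agent.Blocks.Basic.irr_one_eq_charDegree hψ] at h1
  have h3 : (Nat.card W : ℂ) * ((charDegree ψ : ℂ) * charDegree ψ) = Nat.card P := by
    field_simp at h1
    linear_combination h1
  have h4 : ((charDegree ψ ^ 2 * Nat.card W : ℕ) : ℂ) = Nat.card P := by
    push_cast
    rw [← h3]
    ring
  exact_mod_cast h4

/-- the linear character of `W` below an irreducible character -/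
theorem exists_lin (hcen : ∀ (w : W) (g : P), g * i w = i w * g) {ψ : P → ℂ} (hψ : IsIrrCharacter P ψ) :
    ∃ l : W →* ℂˣ, ∀ (x : P) (w : W), ψ (x * i w) = ψ x * (l w : ℂ) := by
  obtain ⟨c, hc, -⟩ := Cfsg.Agent.CharactersDeep.Extraspecial.exists_central_hom hψ
  let j : W →* Subgroup.center P := i.codRestrict _ fun w => Subgroup.mem_center_iff.2 fun g => hcen w g
  exact ⟨c.comp j, fun x w => hc x (j w)⟩

/-- **The degree bound.** -/
theorem sum_le [Fintype W] (hi : Function.Injective i) (hcen : ∀ (w : W) (g : P), g * i w = i w * g) {θ : P → ℂ}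
    (hθ : IsCharacter P θ) (L : Finset (W →* ℂˣ))
    (hnd : ∀ l ∈ L, ∀ x : P, x ∉ i.range → ∃ (y : P) (w : W), x * y * x⁻¹ * y⁻¹ = i w ∧ l w ≠ 1)
    (hocc : ∀ l ∈ L, classInner (fun w : W => θ (i w)) (fun w => (l w : ℂ)) ≠ 0) {m : ℕ}
    (hm : m ^ 2 * Nat.card W ≤ Nat.card P) : L.card * m ≤ charDegree θ := by
  classical
  have := Fintype.ofFinite P
  have := finite_irr (G := P)
  have := Fintype.ofFinite (IrrCharacter P)
  obtain ⟨k, hk⟩ := exists_nat_comb hθ
  have hkc : θ = ∑ ψ : IrrCharacter P, (k ψ : ℂ) • (ψ : P → ℂ) := by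
    rw [hk]
    exact Finset.sum_congr rfl fun ψ _ => by rw [Nat.cast_smul_eq_nsmul]
  have hlin : ∀ ψ : IrrCharacter P, ∃ l : W →* ℂˣ, ∀ (x : P) (w : W), (ψ : P → ℂ) (x * i w) = (ψ : P → ℂ) x * (l w : ℂ) :=
    fun ψ => exists_lin hcen ψ.2
  choose mu hmu using hlin
  have hrestr : ∀ ψ : IrrCharacter P, (fun w : W => (ψ : P → ℂ) (i w)) =
      (charDegree (ψ : P → ℂ) : ℂ) • fun w : W => (mu ψ w : ℂ) := by
    intro ψ
    funext w
    have h1 := hmu ψ 1 w
    rw [one_mul] at h1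
    rw [Pi.smul_apply, smul_eq_mul, ← Cfsg.Agent.Blocks.Basic.irr_one_eq_charDegree ψ.2]
    exact h1
  -- constituents
  have hex : ∀ l ∈ L, ∃ ψ : IrrCharacter P, k ψ ≠ 0 ∧ mu ψ = l := by
    intro l hl
    by_contra hcon
    push Not at hcon
    apply hocc l hl
    have h1 : (fun w : W => θ (i w)) = ∑ ψ : IrrCharacter P, (k ψ : ℂ) • (fun w : W => (ψ : P → ℂ) (i w)) := by
      funext w
      rw [Finset.sum_apply, hkc, Finset.sum_apply]
      exact Finset.sum_congr rfl fun ψ _ => by simp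
    rw [h1, classInner_sum_left]
    refine Finset.sum_eq_zero fun ψ _ => ?_
    rw [classInner_smul_left]
    rcases eq_or_ne (k ψ) 0 with h0 | h0
    · rw [h0, Nat.cast_zero, zero_mul]
    · rw [hrestr ψ, classInner_smul_left, classInner_irr_ne (Characters.Linear.isIrrCharacter_hom (mu ψ))
        (Characters.Linear.isIrrCharacter_hom l) (fun h2 => hcon ψ h0 (by
          ext a
          exact congrFun h2 a)), mul_zero, mul_zero]
  have : Nonempty (IrrCharacter P) := ⟨⟨1, isIrr_one⟩⟩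
  choose! J hJ using hex
  have hJinj : Set.InjOn J L := by
    intro l hl l' hl' h
    rw [← (hJ l hl).2, ← (hJ l' hl').2, h]
  have hdeg : charDegree θ = ∑ ψ : IrrCharacter P, k ψ * charDegree (ψ : P → ℂ) := by
    have h1 := charDegree_cast hθ
    have h2 : (charDegree θ : ℂ) = ((∑ ψ : IrrCharacter P, k ψ * charDegree (ψ : P → ℂ) : ℕ) : ℂ) := by
      rw [h1, hkc, Finset.sum_apply]
      push_cast
      refine Finset.sum_congr rfl fun ψ _ => ?_
      rw [Pi.smul_apply, smul_eq_mul, Cfsg.Agent.Blocks.Basic.irr_one_eq_charDegree ψ.2]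
    exact_mod_cast h2
  have hm' : ∀ l ∈ L, m ≤ k (J l) * charDegree (J l : P → ℂ) := by
    intro l hl
    have h1 := sq_deg hi hcen (hnd l hl) (J l).2 (by
      intro x w
      rw [hmu (J l) x w, (hJ l hl).2])
    have h2 : m ^ 2 ≤ charDegree (J l : P → ℂ) ^ 2 := by
      rw [← h1] at hm
      exact Nat.le_of_mul_le_mul_right hm Nat.card_pos
    have h3 := (Nat.pow_le_pow_iff_left two_ne_zero).1 h2
    have h4 : 1 ≤ k (J l) := Nat.one_le_iff_ne_zero.2 (hJ l hl).1
    nlinarith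
  rw [hdeg]
  calc L.card * m = ∑ l ∈ L, m := by rw [Finset.sum_const, smul_eq_mul]
    _ ≤ ∑ l ∈ L, k (J l) * charDegree (J l : P → ℂ) := Finset.sum_le_sum hm'
    _ = ∑ ψ ∈ L.image J, k ψ * charDegree (ψ : P → ℂ) := by
      rw [Finset.sum_image hJinj]
    _ ≤ _ := Finset.sum_le_sum_of_subset (Finset.subset_univ _)

end Cfsg.Agent.H363.Cyc.CharSum
end

-- part: H363/Cyc/CharOcc
section
/-!
# Linear characters of an abelian subgroup occurring in a character (helper363, for TWOCYC, S3507)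
-/

set_option autoImplicit false

namespace Cfsg.Agent.H363.Cyc.CharOcc

open Cfsg Cfsg.Agent.H686.CharKit Cfsg.Agent.Characters.Core Cfsg.Agent.H954.OutDeg
open Cfsg.Agent.H392.FFourTwo (cj)
open scoped ComplexConjugate commutatorElement

universe u

variable {G : Type u} [Group G] [Finite G]

/-- `l` occurs in `χ` -/
def Occ (W : Subgroup G) (χ : G → ℂ) (l : W →* ℂˣ) : Prop :=
  ∃ _ : Fintype ↥W, classInner (fun w : W => χ (w : G)) (fun w => (l w : ℂ)) ≠ 0

omit [Finite G] in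
theorem cj_inj {W : Subgroup G} {g : G} (h : ∀ w ∈ W, g * w * g⁻¹ ∈ W) : Function.Injective (cj h) := by
  intro a b hab
  have h1 : g * (a : G) * g⁻¹ = g * (b : G) * g⁻¹ := congrArg Subtype.val hab
  exact Subtype.ext (mul_left_cancel (mul_right_cancel h1))

omit [Finite G] in
theorem occ_cj {W : Subgroup G} {χ : G → ℂ} (hχ : ∀ a b : G, χ (b * a * b⁻¹) = χ a) {l : W →* ℂˣ} (h : Occ W χ l)
    {g : G} (hg : ∀ w ∈ W, g * w * g⁻¹ ∈ W) : Occ W χ (l.comp (cj hg)) := by
  obtain ⟨hf, h⟩ := h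
  refine ⟨hf, ?_⟩
  have h1 : classInner (fun w : W => χ (w : G)) (fun w => ((l.comp (cj hg)) w : ℂ)) =
      classInner (fun w : W => χ (w : G)) (fun w => (l w : ℂ)) := by
    rw [classInner_def, classInner_def]
    congr 1
    let e : W ≃ W := Equiv.ofBijective _ (Finite.injective_iff_bijective.1 (cj_inj hg))
    refine Fintype.sum_equiv e _ _ fun w => ?_
    have h2 : χ ((e w : W) : G) = χ (w : G) := hχ _ _
    rw [h2]
    rfl
  intro h2
  exact h (h1.symm.trans h2)

theorem exists_occ {W : Subgroup G} (hcW : ∀ a b : ↥W, a * b = b * a) {χ : G → ℂ} (hχ : IsCharacter G χ) {z : G}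
    (hz : z ∈ W) (h44 : χ z ≠ χ 1) : ∃ l : W →* ℂˣ, Occ W χ l ∧ l ⟨z, hz⟩ ≠ 1 := by
  classical
  have := Fintype.ofFinite ↥W
  have := finite_irr (G := ↥W)
  have := Fintype.ofFinite (IrrCharacter ↥W)
  have hres : IsCharacter W (fun w : W => χ (w : G)) := Characters.Clifford.isCharacter_restrict W hχ
  obtain ⟨m, hm⟩ := exists_nat_comb hres
  have hlin : ∀ ψ : IrrCharacter ↥W, ∃ g : W →* ℂˣ, (ψ : W → ℂ) = fun a => (g a : ℂ) := fun ψ =>
    Characters.Linear.exists_hom_of_isIrrCharacter ψ.2 (Characters.CCBasic.irr_apply_one_of_comm hcW ψ.2)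
  choose g hg using hlin
  have hmc : (fun w : W => χ (w : G)) = ∑ ψ : IrrCharacter ↥W, (m ψ : ℂ) • (ψ : W → ℂ) := by
    rw [hm]
    exact Finset.sum_congr rfl fun ψ _ => by rw [Nat.cast_smul_eq_nsmul]
  obtain ⟨ψ, hψm, hψ1⟩ : ∃ ψ : IrrCharacter ↥W, m ψ ≠ 0 ∧ g ψ ⟨z, hz⟩ ≠ 1 := by
    by_contra hcon
    push Not at hcon
    apply h44
    have h2 := congrFun hmc ⟨z, hz⟩
    have h3 := congrFun hmc 1
    rw [Finset.sum_apply] at h2 h3
    refine Eq.trans (show χ z = _ from h2) (Eq.trans ?_ (show χ 1 = _ from h3).symm)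
    refine Finset.sum_congr rfl fun ψ _ => ?_
    by_cases h6 : m ψ = 0
    · rw [h6, Pi.smul_apply, Pi.smul_apply, Nat.cast_zero, zero_smul, zero_smul]
    · rw [Pi.smul_apply, Pi.smul_apply, hg ψ]
      show (m ψ : ℂ) • ((g ψ ⟨z, hz⟩ : ℂˣ) : ℂ) = (m ψ : ℂ) • ((g ψ 1 : ℂˣ) : ℂ)
      rw [hcon ψ h6, map_one]
  refine ⟨g ψ, ⟨inferInstance, ?_⟩, hψ1⟩
  rw [hmc, classInner_sum_left, Finset.sum_eq_single ψ]
  · rw [classInner_smul_left, ← hg ψ, classInner_irr_self ψ.2, mul_one]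
    exact_mod_cast hψm
  · intro ψ' _ hne
    rw [classInner_smul_left, ← hg ψ, classInner_irr_ne ψ'.2 ψ.2 (fun h => hne (Subtype.ext h)), mul_zero]
  · intro h
    exact absurd (Finset.mem_univ ψ) h

/-- The degree bound from `W ≤ Q`. -/
theorem sum_le {Q W : Subgroup G} (hWQ : W ≤ Q) (hW : ∀ w ∈ W, ∀ q ∈ Q, w * q = q * w)
    (hcm : ∀ q ∈ Q, ∀ q' ∈ Q, ⁅q, q'⁆ ∈ W) {χ : G → ℂ} (hχ : IsCharacter G χ) (L : Finset (W →* ℂˣ))
    (hnd : ∀ l ∈ L, ∀ (q : G) (hq : q ∈ Q), (∀ (q' : G) (hq' : q' ∈ Q), l ⟨⁅q, q'⁆, hcm q hq q' hq'⟩ = 1) → q ∈ W)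
    (hocc : ∀ l ∈ L, Occ W χ l) {m : ℕ} (hm : m ^ 2 * Nat.card W ≤ Nat.card Q) : L.card * m ≤ charDegree χ := by
  classical
  have hfW := Fintype.ofFinite ↥W
  have hres : IsCharacter Q (fun w : Q => χ (w : G)) := Characters.Clifford.isCharacter_restrict Q hχ
  have key := CharSum.sum_le (i := Subgroup.inclusion hWQ) (Subgroup.inclusion_injective hWQ)
    (fun w g => Subtype.ext (hW w w.2 g g.2).symm) hres L (by
      intro l hl q hq
      by_contra hcon
      push Not at hcon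
      apply hq
      have hqW : (q : G) ∈ W := hnd l hl q q.2 (by
        intro q' hq'
        refine hcon ⟨q', hq'⟩ ⟨⁅(q : G), q'⁆, hcm q q.2 q' hq'⟩ ?_
        exact Subtype.ext (commutatorElement_def _ _).symm)
      exact ⟨⟨q, hqW⟩, Subtype.ext rfl⟩) (by
      intro l hl
      obtain ⟨hf, h⟩ := hocc l hl
      have e : hf = hfW := Subsingleton.elim _ _
      subst e
      exact h) hm
  have hd : charDegree (fun w : Q => χ (w : G)) = charDegree χ := by
    have h1 := charDegree_cast hres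
    have h2 := charDegree_cast hχ
    have h3 : (charDegree (fun a : Q => χ a) : ℂ) = charDegree χ := by rw [h1, h2]; rfl
    exact_mod_cast h3
  rwa [hd] at key

end Cfsg.Agent.H363.Cyc.CharOcc
end

-- part: H363/Cyc/F4TwoDeg
section
/-!
# `F₄(2)`: nonlinear irreducible characters have degree at least 448 (helper363, for TWOCYC, S3507)
-/

set_option autoImplicit false
set_option maxRecDepth 100000

namespace Cfsg.Agent.H363.Cyc.F4TwoDeg

open Cfsg Cfsg.Lie Cfsg.Agent.H686.CharKit Cfsg.Agent.Characters.Core Cfsg.Agent.H954.OutDeg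
  Cfsg.Agent.H677.CodMultiset
open Cfsg.Agent.FourTwo.Base Cfsg.Agent.FourTwo.Comm Cfsg.Agent.FourTwo.Par Cfsg.Agent.H392.FFourTwo
open CharOcc (Occ)
open scoped commutatorElement

attribute [local irreducible] x

/-- the codes that occur -/
def CX (χ : LL → ℂ) : Set ℕ := {m | ∃ l : W →* ℂˣ, Occ W χ l ∧ IsCode l m}

theorem CX_closed {χ : LL → ℂ} (hχ : IsCharacter LL χ) (m : ℕ) (hm : m ∈ CX χ) (r : ℕ) (hr : r ∈ gens) :
    phi r m ∈ CX χ := by
  obtain ⟨l, h1, h2⟩ := hm
  have h3 : Occ W χ (l.comp (cj (conjW hr))) :=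
    CharOcc.occ_cj (isClassFunction_def.1 (isCharacter_isClassFunction hχ)) h1 (conjW hr)
  exact ⟨l.comp (cj (conjW hr)), h3, cj_code h2 hr⟩

theorem CX_nonempty {χ : LL → ℂ} (hχ : IsCharacter LL χ) (h44 : χ (x 44) ≠ χ 1) :
    ∃ m ∈ CX χ, m.testBit 3 = true := by
  obtain ⟨l, hl, hl1⟩ := CharOcc.exists_occ (W := W) (fun a b => Subtype.ext (W_comm a.2 (W_le_Q b.2))) hχ x44_W h44
  obtain ⟨c, hc⟩ := exists_code l
  refine ⟨c, ⟨l, hl, hc⟩, ?_⟩
  by_contra h3
  apply hl1
  have h4 := hc.2 3 (by norm_num)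
  rw [Bool.not_eq_true] at h3
  rw [h3, sg_false] at h4
  exact h4

/-- the degree of a character whose kernel does not contain `x 44` -/
theorem le_deg {χ : LL → ℂ} (hχ : IsCharacter LL χ) (h44 : χ (x 44) ≠ χ 1) : 448 ≤ charDegree χ := by
  classical
  obtain ⟨m, hm, h3⟩ := CX_nonempty hχ h44
  have h128 : ∀ m ∈ CX χ, m < 128 := fun m hm => by
    obtain ⟨l, _, h⟩ := hm
    exact h.1
  obtain ⟨L, hL1, hL2, hL3⟩ := exists_list (C := {m | m ∈ CX χ ∧ m.testBit 3 = true}) (fun m hm => h128 m hm.1)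
    (fun m hm r hr => ⟨CX_closed hχ m hm.1 r hr, bit3 r hr m (h128 m hm.1) hm.2⟩) ⟨hm, h3⟩ h3
  have hex : ∀ m ∈ CX χ, ∃ l : W →* ℂˣ, Occ W χ l ∧ IsCode l m := fun m hm => hm
  choose! f hf using hex
  have hcard : (L.toFinset.image f).card = L.length := by
    rw [Finset.card_image_of_injOn, List.toFinset_card_of_nodup hL1]
    intro m1 h1 m2 h2 e
    rw [Finset.mem_coe, List.mem_toFinset] at h1 h2
    have h4 := (hf m1 (hL3 m1 h1).1).2
    rw [e] at h4
    exact code_inj h4 (hf m2 (hL3 m2 h2).1).2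
  have key := CharOcc.sum_le (Q := Q) (W := W) W_le_Q (fun w hw q hq => W_comm hw hq)
    (fun q hq q' hq' => comm_mem_W hq hq') hχ (L.toFinset.image f) (by
      intro l hl q hq h
      rw [Finset.mem_image] at hl
      obtain ⟨m1, h1, rfl⟩ := hl
      rw [List.mem_toFinset] at h1
      have h4 := (hf m1 (hL3 m1 h1).1).2
      refine nondeg ?_ hq h
      have h5 := h4.2 3 (by norm_num)
      rw [(hL3 m1 h1).2, sg_true] at h5
      intro h6
      exact neg_one_ne (h5.symm.trans h6)) (by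
      intro l hl
      rw [Finset.mem_image] at hl
      obtain ⟨m1, h1, rfl⟩ := hl
      rw [List.mem_toFinset] at h1
      exact (hf m1 (hL3 m1 h1).1).1) (m := 2 ^ 4) (by rw [card_Q, card_W]; norm_num)
  rw [hcard] at key
  omega

theorem md_LL : MD LL 448 := by
  intro χ hχ
  have hs : IsSimpleGroup LL := (Cfsg.Agent.S1054.result chevF4 (by simp)).1
  refine le_deg (isIrr_isCharacter χ.2) fun h => ?_
  have h2 : x 44 ∈ chKer χ := mem_chKer.2 h
  rw [chKer_eq_bot (ne_one hχ), Subgroup.mem_bot] at h2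
  exact Cfsg.Agent.FourTwo.BN.x_ne_one (by norm_num) h2

universe u

/-- `F₄(2)` over any field with two elements -/
theorem md_F4 {F : Type u} [Field F] [Fintype F] (hF : Fintype.card F = 2) : MD ↥(chevF4.group F) 448 := by
  have : Fact (Nat.Prime 2) := ⟨Nat.prime_two⟩
  have h3 : Fintype.card (ZMod 2) = Fintype.card F := by rw [hF]; rfl
  let φ : ZMod 2 ≃+* F := FiniteField.ringEquivOfCardEq h3
  exact md_LL.congr (ChevalleyStructure.FieldIso.groupEquiv chevF4 φ)

end Cfsg.Agent.H363.Cyc.F4TwoDeg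
end
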